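/-
Elementary facts about square-zero extensions (`Exal.Ext`): equivalences from maps, extensions from
surjections with square-zero kernel, extensions from derivations and from conormal maps.
-/
import Groth.Prelude.Def_Exal2
import Mathlib.Tactic.LinearCombination

universe u v w

namespace Groth.Agent.Exal3L

open _root_.Exal

attribute [local instance] opModule isCentralScalar_opModule

section Basic

variable {A : Type u} {B L : Type v} [CommRing A] [CommRing B] [Algebra A B] [AddCommGroup L] [Module B L]

theorem proj_incl (X : Ext A B L) (z : L) : X.proj (X.incl z) = 0 :=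
  (X.isExtension.exact _).2 ⟨z, rfl⟩

theorem incl_mul_incl (X : Ext A B L) (z z' : L) : X.incl z * X.incl z' = 0 := by
  rw [X.isExtension.mul_incl, proj_incl, zero_smul, map_zero]

theorem kerLift_incl (X : Ext A B L) (z : L) (h : X.proj (X.incl z) = 0) : X.kerLift (X.incl z) h = z :=
  X.isExtension.incl_injective (X.incl_kerLift _ h)

theorem exists_incl_eq_sub (X : Ext A B L) (x y : X.E) (h : X.proj x = X.proj y) :
    ∃ z : L, X.incl z = x - y :=
  (X.isExtension.exact _).1 (by rw [map_sub, h, sub_self])

/-- A map of extensions is an equivalence. -/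
theorem nonempty_equiv_of_hom {X Y : Ext A B L} (φ : X.E →ₐ[A] Y.E)
    (hp : ∀ x, Y.proj (φ x) = X.proj x) (hi : ∀ z, φ (X.incl z) = Y.incl z) :
    ∃ e : X.Equiv Y, ∀ x, e.toAlgEquiv x = φ x := by
  have hb : Function.Bijective φ := by
    constructor
    · refine (injective_iff_map_eq_zero φ).2 fun x hx => ?_
      have h0 : X.proj x = 0 := by rw [← hp, hx, map_zero]
      obtain ⟨z, rfl⟩ := (X.isExtension.exact x).1 h0
      rw [hi, ← map_zero Y.incl] at hx
      rw [Y.isExtension.incl_injective hx, map_zero]
    · intro y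
      obtain ⟨x, hx⟩ := X.isExtension.proj_surjective (Y.proj y)
      obtain ⟨z, hz⟩ := exists_incl_eq_sub Y y (φ x) (by rw [hp, hx])
      exact ⟨x + X.incl z, by rw [map_add, hi, hz, add_sub_cancel]⟩
  exact ⟨⟨AlgEquiv.ofBijective φ hb, hp, hi⟩, fun x => rfl⟩

end Basic

section Surjection

variable {A : Type u} {B E : Type v} [CommRing A] [CommRing B] [Algebra A B] [CommRing E] [Algebra A E]

/-- A surjection with square-zero kernel is (isomorphic to) the middle ring of an extension. -/
theorem exists_ext_of_surjective (p : E →ₐ[A] B) (hp : Function.Surjective p)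
    (hsq : ∀ x y : E, p x = 0 → p y = 0 → x * y = 0) :
    ∃ (L : Type v) (_ : AddCommGroup L) (_ : Module B L) (X : Ext A B L) (φ : X.E ≃ₐ[A] E),
      ∀ x, p (φ x) = X.proj x := by
  classical
  have key : ∀ (e e' : E) (z : E), p e = p e' → p z = 0 → e * z = e' * z := by
    intro e e' z he hz
    rw [← sub_eq_zero, ← sub_mul]
    exact hsq _ _ (by rw [map_sub, he, sub_self]) hz
  let K : Ideal E := RingHom.ker p
  let σ := Function.surjInv hp
  have hσ : ∀ b, p (σ b) = b := Function.surjInv_eq hp
  let : SMul B K := ⟨fun b z => ⟨σ b * z.1, K.mul_mem_left _ z.2⟩⟩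
  have hsmul : ∀ (b : B) (e : E), p e = b → ∀ z : K, ((b • z : K) : E) = e * z.1 := fun b e he z =>
    key _ _ _ (by rw [hσ, he]) z.2
  let : Module B K :=
    { one_smul := fun z => Subtype.ext (by rw [hsmul 1 1 (map_one p), one_mul])
      mul_smul := fun a b z => Subtype.ext (by
        rw [hsmul (a * b) (σ a * σ b) (by rw [map_mul, hσ, hσ]), hsmul a (σ a) (hσ a),
          hsmul b (σ b) (hσ b), mul_assoc])
      smul_zero := fun a => Subtype.ext (by rw [hsmul a (σ a) (hσ a), ZeroMemClass.coe_zero, mul_zero])
      smul_add := fun a x y => Subtype.ext (by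
        rw [hsmul a (σ a) (hσ a), Submodule.coe_add, Submodule.coe_add, hsmul a (σ a) (hσ a),
          hsmul a (σ a) (hσ a), mul_add])
      add_smul := fun a b z => Subtype.ext (by
        rw [hsmul (a + b) (σ a + σ b) (by rw [map_add, hσ, hσ]), Submodule.coe_add,
          hsmul a (σ a) (hσ a), hsmul b (σ b) (hσ b), add_mul])
      zero_smul := fun z => Subtype.ext (by
        rw [hsmul 0 0 (map_zero p), zero_mul, ZeroMemClass.coe_zero]) }
  refine ⟨K, inferInstance, inferInstance,
    { E := E
      proj := p
      incl := K.subtype.toAddMonoidHom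
      isExtension :=
        { proj_surjective := hp
          incl_injective := K.injective_subtype
          exact := fun x => ⟨fun h => ⟨⟨x, h⟩, rfl⟩, by rintro ⟨⟨y, hy⟩, rfl⟩; exact hy⟩
          mul_incl := fun x z => (hsmul (p x) x rfl z).symm } }, AlgEquiv.refl, fun x => rfl⟩

end Surjection

section Pull

variable {A : Type u} {B C : Type v} [CommRing A] [CommRing B] [Algebra A B] [CommRing C] [Algebra A C]

/-- Pulling back `C → C/J` along `u : B → C/J` gives an extension of `B`; lifts of `u` correspond to
sections. -/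
theorem exists_ext_of_square_zero (J : Ideal C) (hJ : J ^ 2 = ⊥) (u : B →ₐ[A] C ⧸ J) :
    ∃ (L : Type v) (_ : AddCommGroup L) (_ : Module B L) (X : Ext A B L) (g : X.E →ₐ[A] C),
      (∀ x, Ideal.Quotient.mk J (g x) = u (X.proj x)) ∧
      ∀ (c : C) (b : B), Ideal.Quotient.mk J c = u b → ∃! x : X.E, g x = c ∧ X.proj x = b := by
  let P : Subalgebra A (C × B) :=
    AlgHom.equalizer ((Ideal.Quotient.mkₐ A J).comp (AlgHom.fst A C B)) (u.comp (AlgHom.snd A C B))
  let p : P →ₐ[A] B := (AlgHom.snd A C B).comp P.val
  have hp : Function.Surjective p := fun b => by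
    obtain ⟨c, hc⟩ := Ideal.Quotient.mk_surjective (u b)
    exact ⟨⟨(c, b), hc⟩, rfl⟩
  have hsq : ∀ x y : P, p x = 0 → p y = 0 → x * y = 0 := by
    intro x y hx hy
    have h1 : ∀ z : P, p z = 0 → z.1.1 ∈ J := fun z hz => by
      rw [← Ideal.Quotient.eq_zero_iff_mem]
      exact z.2.trans (by change u z.1.2 = 0; rw [show z.1.2 = 0 from hz, map_zero])
    refine Subtype.ext (Prod.ext ?_ ?_)
    · have := Ideal.mul_mem_mul (h1 x hx) (h1 y hy)
      rw [← pow_two, hJ, Ideal.mem_bot] at this
      simpa using this
    · change x.1.2 * y.1.2 = 0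
      rw [show x.1.2 = 0 from hx, zero_mul]
  obtain ⟨L, _, _, X, φ, hφ⟩ := exists_ext_of_surjective p hp hsq
  refine ⟨L, inferInstance, inferInstance, X,
    ((AlgHom.fst A C B).comp P.val).comp φ.toAlgHom, fun x => ?_, fun c b hcb => ?_⟩
  · rw [← hφ]
    exact (φ x).2
  · refine ⟨φ.symm ⟨(c, b), hcb⟩, ⟨?_, ?_⟩, ?_⟩
    · simp
    · rw [← hφ]; simp [p]
    · rintro x ⟨h1, h2⟩
      rw [← hφ] at h2
      apply φ.injective
      rw [AlgEquiv.apply_symm_apply]
      exact Subtype.ext (Prod.ext h1 h2)

end Pull

section Derivation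

variable {A : Type u} {B C L : Type v} [CommRing A] [CommRing B] [CommRing C]
    [Algebra A B] [Algebra B C] [Algebra A C] [IsScalarTower A B C]
    [AddCommGroup L] [Module C L] [Module B L] [IsScalarTower B C L] [Module A L] [IsScalarTower A B L]

/-- An extension trivial over `A` is attached to a derivation of `B`. -/
theorem exists_derivation_of_isTrivialOver (X : Ext B C L) (h : X.IsTrivialOver A) :
    ∃ D : Derivation A B L, Nonempty (X.Equiv (Ext.ofDerivation (C := C) D)) := by
  obtain ⟨s, hs⟩ := h
  let s' : C →+* X.E := s.toRingHom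
  have hs' : ∀ c, X.proj (s' c) = c := hs
  have hA : ∀ a : A, s' (algebraMap A C a) = algebraMap B X.E (algebraMap A B a) := s.commutes
  have hb : ∀ b : B, X.proj (algebraMap B X.E b - s' (algebraMap B C b)) = 0 := fun b => by
    rw [map_sub, hs', AlgHom.commutes, sub_self]
  let f : B → L := fun b => X.kerLift _ (hb b)
  have hf : ∀ b, X.incl (f b) = algebraMap B X.E b - s' (algebraMap B C b) := fun b =>
    X.incl_kerLift _ _
  let D : Derivation A B L := Derivation.mk'
    { toFun := f
      map_add' := fun a b => X.isExtension.incl_injective (by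
        rw [map_add, hf, hf, hf, map_add, map_add, map_add]; ring)
      map_smul' := fun a b => X.isExtension.incl_injective (by
        rw [RingHom.id_apply, ← IsScalarTower.algebraMap_smul B a (f b),
          ← IsScalarTower.algebraMap_smul C (algebraMap A B a) (f b)]
        conv_rhs => rw [← hs' (algebraMap B C (algebraMap A B a)), ← X.isExtension.mul_incl, hf,
          ← IsScalarTower.algebraMap_apply A B C, hA]
        rw [hf, Algebra.smul_def, map_mul, map_mul, map_mul, ← IsScalarTower.algebraMap_apply A B C, hA]
        ring) }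
    (fun a b => X.isExtension.incl_injective (by
      change X.incl (f (a * b)) = X.incl (a • f b + b • f a)
      rw [map_add, ← IsScalarTower.algebraMap_smul C a (f b), ← IsScalarTower.algebraMap_smul C b (f a)]
      conv_rhs => rw [← hs' (algebraMap B C a), ← X.isExtension.mul_incl]
      conv_rhs =>
        arg 2
        rw [← X.proj.commutes b, ← X.isExtension.mul_incl]
      rw [hf, hf, hf, map_mul, map_mul, map_mul]
      ring))
  refine ⟨D, ?_⟩
  let φ : TrivSqZeroExt C L → X.E := fun x => s' x.fst + X.incl x.snd
  have hφmul : ∀ x y, φ (x * y) = φ x * φ y := fun x y => by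
    have h1 := incl_mul_incl X x.snd y.snd
    have h2 : X.incl (x.fst • y.snd) = s' x.fst * X.incl y.snd := by
      rw [X.isExtension.mul_incl, hs']
    have h3 : X.incl (y.fst • x.snd) = s' y.fst * X.incl x.snd := by
      rw [X.isExtension.mul_incl, hs']
    simp only [φ, TrivSqZeroExt.fst_mul, TrivSqZeroExt.snd_mul, map_mul, map_add, op_smul_eq_smul, h2, h3]
    linear_combination -h1
  let φ' : (Ext.ofDerivation (C := C) D).E →ₐ[B] X.E :=
    { toFun := φ
      map_one' := by
        change s' 1 + X.incl 0 = 1
        rw [map_one, map_zero, add_zero]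
      map_mul' := hφmul
      map_zero' := by
        change s' 0 + X.incl 0 = 0
        rw [map_zero, map_zero, add_zero]
      map_add' := fun x y => by
        change s' (TrivSqZeroExt.fst (x : TrivSqZeroExt C L) + TrivSqZeroExt.fst (y : TrivSqZeroExt C L)) +
          X.incl (TrivSqZeroExt.snd (x : TrivSqZeroExt C L) + TrivSqZeroExt.snd (y : TrivSqZeroExt C L)) = _
        rw [map_add, map_add]; simp only [φ]; abel
      commutes' := fun b => by
        change s' (algebraMap B C b + 0) + X.incl (0 + f b) = _
        rw [add_zero, zero_add, hf]; abel }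
  obtain ⟨e, -⟩ := nonempty_equiv_of_hom φ' (fun x => by
      change X.proj (s' _ + X.incl _) = _
      rw [map_add, hs', proj_incl, add_zero]; rfl)
    (fun z => by
      change s' 0 + X.incl z = _
      rw [map_zero, zero_add])
  exact ⟨e.symm⟩

theorem ofDerivation_isTrivialOver (D : Derivation A B L) :
    (Ext.ofDerivation (C := C) D).IsTrivialOver A := by
  refine ⟨{ toFun := fun c => (TrivSqZeroExt.inl c : TrivSqZeroExt C L)
            map_one' := TrivSqZeroExt.inl_one L
            map_mul' := fun x y => TrivSqZeroExt.inl_mul L x y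
            map_zero' := TrivSqZeroExt.inl_zero L
            map_add' := fun x y => TrivSqZeroExt.inl_add L x y
            commutes' := fun a => ?_ }, fun c => rfl⟩
  change TrivSqZeroExt.inl (algebraMap A C a) =
    (TrivSqZeroExt.inl (algebraMap B C (algebraMap A B a)) + TrivSqZeroExt.inr (D (algebraMap A B a)) : TrivSqZeroExt C L)
  rw [← IsScalarTower.algebraMap_apply A B C, D.map_algebraMap, TrivSqZeroExt.inr_zero, add_zero]

theorem isTrivialOver_of_equiv {X Y : Ext B C L} (e : X.Equiv Y) (h : X.IsTrivialOver A) :
    Y.IsTrivialOver A := by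
  obtain ⟨s, hs⟩ := h
  exact ⟨{ toFun := fun c => e.toAlgEquiv (s c)
           map_one' := by rw [map_one]; exact map_one e.toAlgEquiv
           map_mul' := fun x y => by rw [map_mul]; exact map_mul e.toAlgEquiv _ _
           map_zero' := by rw [map_zero]; exact map_zero e.toAlgEquiv
           map_add' := fun x y => by rw [map_add]; exact map_add e.toAlgEquiv _ _
           commutes' := fun a => by
             rw [s.commutes]; exact e.toAlgEquiv.commutes (algebraMap A B a) },
    fun c => (e.proj_apply _).trans (hs c)⟩

end Derivation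

end Groth.Agent.Exal3L
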